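import Cfsg.Agent.Lib.CosetEnum.Defs

/-! Generated table data. -/

set_option autoImplicit false
set_option maxRecDepth 20000

namespace Cfsg.Lib.HeldType.Amalgam.L51

open Cfsg.Lib.CosetEnum

/-- Table data. -/
def tabF_0 : Tab :=
  (.node 1 (.leaf 0x480001220000000000480001250000000000480001230000000000400001010000000000380000e00000000000200000e10000000000300000c30000000000180000c10000000000300000c20000000000280000a10000000000280000a50000000000200000800000000000180000630000000000180000620000000000100000400000000000100000430000000000100000440000000000100000420000000000080000220000000000080000230000000000080000200000000000000000060000000000000000070000000000000000050000000000000000030000000000000000020000000000000000010000000000000000000000000000880004870000000000880004660000000000780004400000000000700004230000000000700004020000000000680003e30000000000600003c70000000000600003a50000000000580003800000000000500003630000000000500003420000000000480003260000000000400003030000000000400002e20000000000400002c00000000000380002a50000000000380002820000000000300002670000000000300002460000000000300002200000000000280002030000000000280001e20000000000280001c00000000000200001a50000000000200001820000000000180001670000000000180001460000000000180001200000000000100001070000000000100000e60000000000100000c50000000000080000a7000000000008000086000000000008000065000000000008000041000000000000000024) (.leaf 0x400000000001000001f00000000001000003f00000000003000007f00000000005800027f0000000000c800027f00000000011800017f0000000001100002ff0000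000000e000017f0000000000d00003df0000000001080003df0000000001000004010000000000b00003620000000000900004030000000001000003e70000000000a80004800000000001200004850000000000e00004650000000001180004600000000000c80004610000000000e00004430000000000800004200000000000e80003e10000000000a80003e20000000000a80003a30000000000680003a20000000000b80003050000000000800003010000000000980003020000000000b80002e10000000000580002e30000000000500002c50000000000700002c10000000000a80002a10000000000a00002800000000000a00002860000000000a00002810000000000380002830000000000800001e50000000000780001e10000000000580002020000000000580002610000000000780002630000000000700002450000000000900002400000000000900002410000000000880002240000000000880002220000000000880002210000000000880002230000000000780001e70000000000680001a10000000000600001800000000000200001830000000000600001860000000000600001810000000000580001650000000000500001400000000000500001410000000000300000c4000000000018000124000000000048000121))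

end Cfsg.Lib.HeldType.Amalgam.L51
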